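import Mathlib

/-! # Invertible modules over `R[X]` for an integrally closed domain `R` are extended from `R` -/

set_option autoImplicit false

open Polynomial TensorProduct

noncomputable section

namespace Groth.Agent.PicNormalPoly

universe u

lemma exists_first_max {K : Type u} [Field K] (V : ValuationSubring K) (F : K[X]) (hF : F ≠ 0) :
    ∃ i₀, V.valuation (F.coeff i₀) ≠ 0 ∧ ∀ i, V.valuation (F.coeff i) ≤ V.valuation (F.coeff i₀) ∧
      (i < i₀ → V.valuation (F.coeff i) < V.valuation (F.coeff i₀)) := by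
  classical
  obtain ⟨a, ha, hmax⟩ := F.support.exists_max_image (fun i => V.valuation (F.coeff i))
    (support_nonempty.mpr hF)
  have hall : ∀ i, V.valuation (F.coeff i) ≤ V.valuation (F.coeff a) := by
    intro i
    by_cases hi : i ∈ F.support
    · exact hmax i hi
    · rw [notMem_support_iff.mp hi, map_zero]; exact zero_le'
  let S := F.support.filter fun i => V.valuation (F.coeff i) = V.valuation (F.coeff a)
  have hS : S.Nonempty := ⟨a, Finset.mem_filter.mpr ⟨ha, rfl⟩⟩
  obtain ⟨hm, hv⟩ := Finset.mem_filter.mp (S.min'_mem hS)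
  refine ⟨S.min' hS, (Valuation.ne_zero_iff _).mpr (mem_support_iff.mp hm),
    fun i => ⟨hv ▸ hall i, fun hi => ?_⟩⟩
  rw [hv]
  refine lt_of_le_of_ne (hall i) fun h => ?_
  by_cases his : i ∈ F.support
  · exact absurd (S.min'_le i (Finset.mem_filter.mpr ⟨his, h⟩)) (not_le.mpr hi)
  · rw [notMem_support_iff.mp his, map_zero] at h
    exact (Valuation.ne_zero_iff _).mpr (mem_support_iff.mp ha) h.symm

lemma gauss {K : Type u} [Field K] (V : ValuationSubring K) (F G : K[X])
    (h : ∀ k, (F * G).coeff k ∈ V) (i j : ℕ) : F.coeff i * G.coeff j ∈ V := by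
  classical
  rcases eq_or_ne F 0 with rfl | hF
  · simp
  rcases eq_or_ne G 0 with rfl | hG
  · simp
  obtain ⟨i₀, hi0, hi⟩ := exists_first_max V F hF
  obtain ⟨j₀, hj0, hj⟩ := exists_first_max V G hG
  have hk : V.valuation ((F * G).coeff (i₀ + j₀)) =
      V.valuation (F.coeff i₀) * V.valuation (G.coeff j₀) := by
    rw [coeff_mul, Valuation.map_sum_eq_of_lt (j := (i₀, j₀)) _ (by simp), map_mul]
    rintro ⟨p, q⟩ hpq
    simp only [Finset.mem_sdiff, Finset.HasAntidiagonal.mem_antidiagonal, Finset.mem_singleton,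
      Prod.mk.injEq] at hpq
    simp only [map_mul]
    have hlt : p < i₀ ∨ q < j₀ := by omega
    rcases hlt with h' | h'
    · exact lt_of_le_of_lt (mul_le_mul_right (hj q).1 _)
        (mul_lt_mul_of_pos_right ((hi p).2 h') (zero_lt_iff.mpr hj0))
    · exact lt_of_le_of_lt (mul_le_mul_left (hi p).1 _)
        (mul_lt_mul_of_pos_left ((hj q).2 h') (zero_lt_iff.mpr hi0))
  rw [← V.valuation_le_one_iff, map_mul]
  exact (mul_le_mul' (hi i).1 (hj j).1).trans (hk ▸ (V.valuation_le_one_iff _).mpr (h _))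

lemma kronecker (R : Type u) [CommRing R] [IsDomain R] [IsIntegrallyClosed R] {a : R} (ha : a ≠ 0)
    {f y : R[X]} (h : C a ∣ f * y) (i j : ℕ) : a ∣ f.coeff i * y.coeff j := by
  let K := FractionRing R
  let ι := algebraMap R K
  have hι : Function.Injective ι := IsFractionRing.injective R K
  have hιa : ι a ≠ 0 := fun h0 => ha (hι (h0.trans (map_zero ι).symm))
  obtain ⟨g, hg⟩ := h
  let F : K[X] := C (ι a)⁻¹ * f.map ι
  have hFG : F * y.map ι = g.map ι := by
    show C (ι a)⁻¹ * f.map ι * y.map ι = _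
    rw [mul_assoc, ← Polynomial.map_mul, hg, Polynomial.map_mul, map_C, ← mul_assoc, ← map_mul,
      inv_mul_cancel₀ hιa, map_one, one_mul]
  let R' : Subring K := ι.range
  haveI : IsIntegrallyClosedIn R' K := by
    refine isIntegrallyClosedIn_iff.mpr ⟨Subtype.val_injective, fun {x} hx => ?_⟩
    obtain ⟨p, hp, hpx⟩ := hx
    obtain ⟨p', rfl⟩ := Polynomial.map_surjective ι.rangeRestrict ι.rangeRestrict_surjective p
    obtain ⟨q, hq, -, hqm⟩ := lifts_and_degree_eq_and_monic ⟨p', rfl⟩ hp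
    have hx' : IsIntegral R x := ⟨q, hqm, by rw [← hpx, ← Polynomial.coe_mapRingHom, ← hq, eval₂_map]; rfl⟩
    obtain ⟨r, hr⟩ := IsIntegrallyClosed.algebraMap_eq_of_integral hx'
    exact ⟨⟨x, r, hr⟩, rfl⟩
  have hx : F.coeff i * (y.map ι).coeff j ∈ R' := by
    by_contra hx
    obtain ⟨V, hV, hxV⟩ := Subring.exists_le_valuationSubring_of_isIntegrallyClosedIn hx
    exact hxV (gauss V F _ (fun k => hV (by rw [hFG, coeff_map]; exact ⟨_, rfl⟩)) i j)
  obtain ⟨r, hr⟩ := hx
  refine ⟨r, hι ?_⟩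
  rw [map_mul, map_mul, hr]
  simp only [F, coeff_C_mul, coeff_map]
  rw [← mul_assoc, ← mul_assoc, mul_inv_cancel₀ hιa, one_mul]

lemma exists_mul_eq_span (S : Type u) [CommRing S] [IsDomain S] (J : Ideal S) [Module.Invertible S J]
    {b : S} (hb : b ∈ J) : ∃ J₂ : Ideal S, J * J₂ = Ideal.span {b} := by
  let J₂ : Ideal S :=
    { carrier := {y | ∀ x ∈ J, b ∣ x * y}
      add_mem' := fun {y z} hy hz x hx => by rw [mul_add]; exact dvd_add (hy x hx) (hz x hx)
      zero_mem' := fun x _ => by rw [mul_zero]; exact dvd_zero b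
      smul_mem' := fun c y hy x hx => by
        rw [smul_eq_mul, mul_left_comm]; exact dvd_mul_of_dvd_right (hy x hx) c }
  refine ⟨J₂, le_antisymm (Ideal.mul_le.mpr fun x hx y hy =>
    Ideal.mem_span_singleton.mpr (hy x hx)) ?_⟩
  rw [Ideal.span_le, Set.singleton_subset_iff]
  obtain ⟨n, s, t, -, -, hst⟩ := Module.Finite.exists_comp_eq_id_of_projective S J
  have hsum : (b : S) = ∑ i, t ⟨b, hb⟩ i * (s (Pi.single i 1) : S) := by
    have h1 : s (t ⟨b, hb⟩) = ⟨b, hb⟩ := LinearMap.congr_fun hst _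
    conv_lhs => rw [show b = ((s (t ⟨b, hb⟩) : J) : S) by rw [h1], pi_eq_sum_univ' (t ⟨b, hb⟩)]
    simp [map_sum, map_smul]
  rw [hsum]
  refine Submodule.sum_mem _ fun i _ => ?_
  rw [mul_comm (t ⟨b, hb⟩ i)]
  refine Ideal.mul_mem_mul (s (Pi.single i 1)).2 fun x hx => ?_
  have h2 : x • t ⟨b, hb⟩ = b • t ⟨x, hx⟩ := by
    rw [← map_smul, ← map_smul]
    congr 1
    exact Subtype.ext (mul_comm x b)
  exact ⟨t ⟨x, hx⟩ i, congrFun h2 i⟩

theorem exists_extended (R : Type u) [CommRing R] [IsDomain R] [IsIntegrallyClosed R]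
    (c : CommRing.Pic R[X]) : ∃ d : CommRing.Pic R, c = CommRing.Pic.mapRingHom C d := by
  classical
  obtain ⟨J, ⟨e⟩⟩ := Module.Invertible.exists_linearEquiv_ideal R[X] c
  haveI : Module.Invertible R[X] J := .congr e
  have hJne : J ≠ ⊥ := by
    rintro rfl
    haveI : Subsingleton c := e.toEquiv.subsingleton
    haveI : Module.Free R[X] c := Module.Free.of_subsingleton R[X] c
    have h := Module.Invertible.finrank_eq_one R[X] c
    rw [Module.finrank_zero_of_subsingleton] at h
    exact zero_ne_one h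
  let K := FractionRing R
  letI : Algebra R[X] K[X] := Polynomial.algebra R K
  haveI : IsLocalization ((nonZeroDivisors R).map (C : R →+* R[X])) K[X] :=
    Polynomial.isLocalization _ K
  have hmapinj : Function.Injective (algebraMap R[X] K[X]) :=
    Polynomial.map_injective _ (IsFractionRing.injective R K)
  obtain ⟨g, hg⟩ := IsPrincipalIdealRing.principal (J.map (algebraMap R[X] K[X]))
  obtain ⟨⟨p, s⟩, hps⟩ := IsLocalization.surj ((nonZeroDivisors R).map (C : R →+* R[X])) g
  have hmap : J.map (algebraMap R[X] K[X]) = Ideal.span {algebraMap R[X] K[X] p} := by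
    rw [← hps, Ideal.span_singleton_mul_right_unit (IsLocalization.map_units K[X] s)]
    exact hg
  have hdiv : ∀ j ∈ J, ∃ m ∈ (nonZeroDivisors R).map (C : R →+* R[X]), p ∣ m * j := by
    intro j hj
    have h1 : algebraMap R[X] K[X] j ∈ (Ideal.span {p}).map (algebraMap R[X] K[X]) := by
      rw [Ideal.map_span, Set.image_singleton, ← hmap]; exact Ideal.mem_map_of_mem _ hj
    obtain ⟨m, hm, hmj⟩ :=
      (IsLocalization.algebraMap_mem_map_algebraMap_iff
        ((nonZeroDivisors R).map (C : R →+* R[X])) K[X] (Ideal.span {p}) j).mp h1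
    exact ⟨m, hm, Ideal.mem_span_singleton.mp hmj⟩
  obtain ⟨G, hG⟩ : (J : Submodule R[X] R[X]).FG :=
    (Module.Finite.iff_fg (N := (J : Submodule R[X] R[X]))).mp inferInstance
  choose m hm hmd using hdiv
  have hGJ : ∀ x ∈ G, x ∈ J := fun x hx => hG ▸ Submodule.subset_span hx
  obtain ⟨c₀, hc₀, hcC⟩ : ∏ x ∈ G.attach, m x.1 (hGJ x.1 x.2) ∈ (nonZeroDivisors R).map (C : R →+* R[X]) :=
    Submonoid.prod_mem _ fun x _ => hm _ _
  have hc0 : c₀ ≠ 0 := nonZeroDivisors.ne_zero hc₀
  have hcJ : ∀ j ∈ J, p ∣ C c₀ * j := by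
    intro j hj
    rw [← hG] at hj
    induction hj using Submodule.span_induction with
    | mem x hx =>
      refine (hmd x (hGJ x hx)).trans (mul_dvd_mul_right ?_ x)
      rw [show (C c₀ : R[X]) = _ from hcC]
      exact Finset.dvd_prod_of_mem (fun z : G => m z.1 (hGJ z.1 z.2)) (Finset.mem_attach G ⟨x, hx⟩)
    | zero => simp
    | add a b _ _ ha hb => rw [mul_add]; exact dvd_add ha hb
    | smul r a _ ha => rw [smul_eq_mul, mul_left_comm]; exact dvd_mul_of_dvd_right ha r
  have hp0 : p ≠ 0 := by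
    rintro rfl
    apply hJne
    rw [map_zero, Ideal.span_singleton_eq_bot.mpr rfl] at hmap
    exact (Ideal.map_eq_bot_iff_of_injective hmapinj).mp hmap
  have hcp : (C c₀ : R[X]) ≠ 0 := C_ne_zero.mpr hc0
  -- the scaled ideal
  let J₁ : Ideal R[X] :=
    { carrier := {y | ∃ j ∈ J, C c₀ * j = p * y}
      add_mem' := fun {y z} ⟨j, hj, e1⟩ ⟨k, hk, e2⟩ => ⟨j + k, add_mem hj hk, by rw [mul_add, e1, e2, mul_add]⟩
      zero_mem' := ⟨0, zero_mem _, by simp⟩
      smul_mem' := fun r y ⟨j, hj, e1⟩ => ⟨r * j, J.mul_mem_left r hj, by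
        rw [smul_eq_mul, mul_left_comm, e1, mul_left_comm]⟩ }
  let sc : J →ₗ[R[X]] J₁ :=
    { toFun := fun j => ⟨(hcJ j.1 j.2).choose, j.1, j.2, (hcJ j.1 j.2).choose_spec⟩
      map_add' := fun a b => Subtype.ext (mul_left_cancel₀ hp0 (by
        show p * (hcJ _ (a + b).2).choose = p * ((hcJ _ a.2).choose + (hcJ _ b.2).choose)
        rw [← (hcJ _ (a + b).2).choose_spec, mul_add, ← (hcJ _ a.2).choose_spec,
          ← (hcJ _ b.2).choose_spec, Submodule.coe_add, mul_add]))
      map_smul' := fun r a => Subtype.ext (mul_left_cancel₀ hp0 (by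
        show p * (hcJ _ (r • a).2).choose = p * (r * (hcJ _ a.2).choose)
        rw [← (hcJ _ (r • a).2).choose_spec, mul_left_comm p, ← (hcJ _ a.2).choose_spec]
        show C c₀ * (r * a.1) = r * (C c₀ * a.1)
        rw [mul_left_comm])) }
  have hsc : Function.Bijective sc := by
    refine ⟨fun a b h => Subtype.ext (mul_left_cancel₀ hcp ?_), fun ⟨y, j, hj, e1⟩ => ⟨⟨j, hj⟩, ?_⟩⟩
    · rw [(hcJ a.1 a.2).choose_spec, (hcJ b.1 b.2).choose_spec]
      exact congrArg (p * ·) (congrArg Subtype.val h)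
    · exact Subtype.ext (mul_left_cancel₀ hp0 ((hcJ j hj).choose_spec.symm.trans e1))
  let e₁ := LinearEquiv.ofBijective sc hsc
  haveI : Module.Invertible R[X] J₁ := .congr e₁
  obtain ⟨m₀, ⟨s₀, hs₀, rfl⟩, hm0⟩ := (IsLocalization.algebraMap_mem_map_algebraMap_iff
      ((nonZeroDivisors R).map (C : R →+* R[X])) K[X] J p).mp
      (hmap ▸ Ideal.mem_span_singleton_self _)
  set a := c₀ * s₀ with ha_def
  have ha : a ≠ 0 := mul_ne_zero hc0 (nonZeroDivisors.ne_zero hs₀)
  have haJ : C a ∈ J₁ := ⟨C s₀ * p, hm0, by rw [ha_def, map_mul]; ring⟩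
  obtain ⟨J₂, hJ₂⟩ := exists_mul_eq_span R[X] J₁ haJ
  have hcoef : ∀ f ∈ J₁, ∀ i, C (f.coeff i) ∈ J₁ := by
    intro f hf i
    have h1 : ∀ y ∈ J₂, C a ∣ C (f.coeff i) * y := by
      intro y hy
      rw [C_dvd_iff_dvd_coeff]
      intro j
      rw [coeff_C_mul]
      exact kronecker R ha (Ideal.mem_span_singleton.mp (hJ₂ ▸ Ideal.mul_mem_mul hf hy)) i j
    have h2 : C (f.coeff i) * C a ∈ Ideal.span {C a} * J₁ := by
      have h3 : C a ∈ J₁ * J₂ := hJ₂.symm ▸ Ideal.mem_span_singleton_self _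
      suffices H : ∀ z ∈ J₁ * J₂, C (f.coeff i) * z ∈ Ideal.span {C a} * J₁ from H _ h3
      intro z hz
      refine Submodule.mul_induction_on hz (fun x hx y hy => ?_) (fun x y hx hy => ?_)
      · rw [show C (f.coeff i) * (x * y) = (C (f.coeff i) * y) * x by ring]
        exact Ideal.mul_mem_mul (Ideal.mem_span_singleton.mpr (h1 y hy)) hx
      · rw [mul_add]; exact add_mem hx hy
    rw [Ideal.mem_span_singleton_mul] at h2
    obtain ⟨z, hz, hze⟩ := h2
    rw [mul_comm] at hze
    rw [← mul_right_cancel₀ (C_ne_zero.mpr ha) hze]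
    exact hz
  let I : Ideal R := J₁.comap C
  let I₂ : Ideal R := J₂.map (evalRingHom (0 : R))
  have hI : J₁.map (evalRingHom (0 : R)) = I := by
    apply le_antisymm
    · rw [Ideal.map_le_iff_le_comap]
      intro f hf
      show C (eval 0 f) ∈ J₁
      rw [← coeff_zero_eq_eval_zero]
      exact hcoef f hf 0
    · intro r hr
      simpa using Ideal.mem_map_of_mem (evalRingHom (0 : R)) (show C r ∈ J₁ from hr)
  have hII : I * I₂ = Ideal.span {a} := by
    rw [← hI, ← Ideal.map_mul, hJ₂, Ideal.map_span, Set.image_singleton]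
    simp
  let ιK : R →ₗ[R] K := Algebra.linearMap R K
  have hιinj : Function.Injective ιK := IsFractionRing.injective R K
  have hu : IsUnit (Submodule.map ιK I : Submodule R K) := by
    refine IsUnit.of_mul_eq_one
      (Submodule.map ιK I₂ * Submodule.span R {(algebraMap R K a)⁻¹}) ?_
    rw [← mul_assoc]
    have : Submodule.map ιK I * Submodule.map ιK I₂ = Submodule.span R {algebraMap R K a} := by
      rw [← show (Submodule.map ιK (Ideal.span {a})) = Submodule.span R {algebraMap R K a} by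
        rw [Submodule.map_span, Set.image_singleton]; rfl, ← hII]
      exact (Submodule.map_mul _ _ (Algebra.ofId R K)).symm
    have hne : algebraMap R K a ≠ 0 := fun h => ha (hιinj (h.trans (map_zero ιK).symm))
    rw [this, Submodule.span_mul_span, Set.singleton_mul_singleton,
      mul_inv_cancel₀ hne, Submodule.one_eq_span]
  haveI : Module.Invertible R (Submodule.map ιK I : Submodule R K) :=
    hu.unit_spec ▸ (inferInstance : Module.Invertible R (hu.unit : Submodule R K))
  haveI : Module.Invertible R I := .congr (Submodule.equivMapOfInjective ιK hιinj I).symm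
  refine ⟨.mk R I, ?_⟩
  rw [← Polynomial.algebraMap_eq, CommRing.Pic.mapRingHom_algebraMap, CommRing.Pic.mapAlgebra_apply]
  refine CommRing.Pic.mk_eq_self.symm.trans (CommRing.Pic.mk_eq_mk_iff.mpr ?_)
  let l : I →ₗ[R] J₁ :=
    { toFun := fun r => ⟨C r.1, r.2⟩
      map_add' := fun x y => Subtype.ext (map_add C _ _)
      map_smul' := fun r x => Subtype.ext (by
        show C (r * x.1) = r • C x.1
        rw [map_mul, ← smul_eq_C_mul]) }
  let Φ := l.liftBaseChange R[X]
  have hΦ : Function.Surjective Φ := by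
    rintro ⟨f, hf⟩
    refine ⟨∑ i ∈ f.support, (X ^ i : R[X]) ⊗ₜ[R] (⟨f.coeff i, hcoef f hf i⟩ : I), Subtype.ext ?_⟩
    rw [map_sum, AddSubmonoidClass.coe_finsetSum]
    show _ = f
    conv_rhs => rw [f.as_sum_support_C_mul_X_pow]
    refine Finset.sum_congr rfl fun i _ => ?_
    show X ^ i * C (f.coeff i) = _
    rw [mul_comm]
  let eI : R[X] ⊗[R] (CommRing.Pic.mk R I) ≃ₗ[R[X]] R[X] ⊗[R] I :=
    TensorProduct.AlgebraTensorModule.congr (.refl _ _) (CommRing.Pic.mk.linearEquiv R I)
  exact ⟨(e.trans e₁).trans ((eI.trans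
    (LinearEquiv.ofBijective Φ (Module.Invertible.bijective_of_surjective hΦ))).symm)⟩

end Groth.Agent.PicNormalPoly
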